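import Groth.Agent.RelVA16.EpiImm
import Groth.Agent.RelVA16.Segre
import Groth.Agent.ProjCl17.Basic
import Groth.Agent.RelTildeX.Invertible
import Groth.Agent.CurveTest.Basic
import Groth.Agent.Lib.NefBC
import Mathlib

/-! Projective bundles of finite locally free modules and invertible quotients. -/

set_option autoImplicit false
set_option backward.isDefEq.respectTransparency false
set_option backward.isDefEq.respectTransparency.types false
set_option linter.style.haveILetI false

universe u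

open CategoryTheory CategoryTheory.Limits AlgebraicGeometry TopologicalSpace

namespace Groth.Agent.NefVB

open Groth.Agent Groth.Agent.RelVA16

variable {Y : Scheme.{u}} {E : Y.Modules}

theorem isProper_p (hE : FlatMod.IsFinLocFree E) (B : PB Y E) : IsProper B.p :=
  ProjCl17.isProper_p B (QCoh.isFT_of_isFP (QCoh.isFP_of_isFinLocFree hE))

theorem compactSpace_P [CompactSpace Y] (hE : FlatMod.IsFinLocFree E) (B : PB Y E) : CompactSpace B.P := by
  haveI := isProper_p hE B
  exact QuasiCompact.compactSpace_of_compactSpace B.p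

theorem isInvertible_O1 (B : PB Y E) : PicF.IsInvertible B.O1 :=
  RelTildeX.isInvertible_twist B.gen B.hO1

/-- The universal quotient. -/
theorem exists_univ_quot (B : PB Y E) :
    ∃ q : (Scheme.Modules.pullback B.p).obj E ⟶ B.O1, Epi q := by
  obtain ⟨φ, hφ⟩ := B.exists_fund
  exact ⟨_, epi_adjoint_fund B.hE B.hj B.hO1 φ hφ⟩

/-- An invertible quotient of a pullback of `E` is the pullback of `O(1)` along a morphism into the bundle. -/
theorem exists_map_of_quotient (B : PB Y E) {X : Scheme.{u}} (f : X ⟶ Y) {M : X.Modules}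
    (hM : PicF.IsInvertible M) (q : (Scheme.Modules.pullback f).obj E ⟶ M) (hq : Epi q) :
    ∃ r : X ⟶ B.P, r ≫ B.p = f ∧ Nonempty ((Scheme.Modules.pullback r).obj B.O1 ≅ M) := by
  obtain ⟨r, hr⟩ := exists_isMapOf B _ (gen_of_epi hM q hq)
  obtain ⟨τ, -⟩ := hr.exists_iso
  exact ⟨r, hr.comp, ⟨τ⟩⟩

section nef

variable (k : Type u) [Field k] {X : Scheme.{u}} [X.Over (Spec (CommRingCat.of k))]
  [IsProper (X ↘ Spec (CommRingCat.of k))] {F : X.Modules}

/-- Barton–Kleiman: curve-test nefness gives nefness of `O(1)`. -/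
theorem isNef_O1_of_curveNef (hF : FlatMod.IsFinLocFree F) (B : PB X F) (h : CurveTest.CurveNef k F) :
    letI : B.P.Over (Spec (CommRingCat.of k)) := ⟨B.p ≫ (X ↘ Spec (CommRingCat.of k))⟩
    NefPull.IsNef k B.O1 := by
  haveI := isProper_p hF B
  letI : B.P.Over (Spec (CommRingCat.of k)) := ⟨B.p ≫ (X ↘ Spec (CommRingCat.of k))⟩
  haveI : IsProper (B.P ↘ Spec (CommRingCat.of k)) :=
    inferInstanceAs (IsProper (B.p ≫ (X ↘ Spec (CommRingCat.of k))))
  obtain ⟨q, hq⟩ := exists_univ_quot B
  haveI := hq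
  exact CurveTest.isNef_of_quotient h B.p rfl (isInvertible_O1 B) q

/-- Nefness of `O(1)` gives curve-test nefness. -/
theorem curveNef_of_isNef_O1 (hF : FlatMod.IsFinLocFree F) (B : PB X F)
    (h : letI : B.P.Over (Spec (CommRingCat.of k)) := ⟨B.p ≫ (X ↘ Spec (CommRingCat.of k))⟩
      NefPull.IsNef k B.O1) : CurveTest.CurveNef k F := by
  haveI := isProper_p hF B
  letI : B.P.Over (Spec (CommRingCat.of k)) := ⟨B.p ≫ (X ↘ Spec (CommRingCat.of k))⟩
  haveI : IsProper (B.P ↘ Spec (CommRingCat.of k)) :=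
    inferInstanceAs (IsProper (B.p ≫ (X ↘ Spec (CommRingCat.of k))))
  intro C _ _ _ hC hreg g hg M hM q hq
  obtain ⟨r, hr, ⟨τ⟩⟩ := exists_map_of_quotient B g hM q hq
  refine (NefPull.deg_nonneg hC r ?_ (isInvertible_O1 B) h).trans_eq (CurveRR.deg_congr k τ 1)
  show r ≫ B.p ≫ _ = _
  rw [← Category.assoc, hr, hg]

end nef

end Groth.Agent.NefVB
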