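import Groth.Agent.H28.PBDim
import Groth.Agent.H28.PBMake
import Groth.Agent.H28.PBRecog.Push
import Groth.Agent.H28.BlowHH
import Groth.Agent.H28.KRRReg
import Groth.Agent.H28.RzCover
import Groth.Agent.H23.Chern.TowerSmooth
import Groth.Agent.H23.ProjBd.Proper
import Groth.Agent.H23.PicInv
import Groth.Agent.AlgSpLib.DescendLocally
import Groth.Agent.Lib.EulerLeray
import Groth.Agent.Lib.CurveSlope
import Groth.Agent.Lib.NefTop
import Groth.Agent.Snapper.Main
import Groth.Agent.CurveTest.Basic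
import Mathlib.RingTheory.Polynomial.Pochhammer

/-! The degree of a nef bundle on a curve is nonnegative. -/

set_option autoImplicit false
set_option linter.style.haveILetI false
set_option linter.unusedSectionVars false
set_option backward.isDefEq.respectTransparency false
set_option backward.isDefEq.respectTransparency.types false
set_option maxHeartbeats 1000000

universe u

open CategoryTheory CategoryTheory.Limits AlgebraicGeometry TopologicalSpace Opposite Polynomial

noncomputable section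

attribute [local instance] Groth.Agent.H23.PicMul.clMonoid

namespace Groth.Agent.NefVB

open Groth.Agent Groth.Agent.H23.PicMul

theorem coeff_comp_X_add {R : Type*} [CommRing R] [IsDomain R] (p : R[X]) (a : R) {d : ℕ}
    (hd : p.natDegree ≤ d) : (p.comp (X + C a)).natDegree ≤ d ∧ (p.comp (X + C a)).coeff d = p.coeff d := by
  have h1 : (p.comp (X + C a)).natDegree = p.natDegree := by
    rw [natDegree_comp, natDegree_X_add_C, mul_one]
  refine ⟨h1.trans_le hd, ?_⟩
  rcases hd.eq_or_lt with h | h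
  · subst h
    have h2 := leadingCoeff_comp (p := p) (q := X + C a) (by rw [natDegree_X_add_C]; exact one_ne_zero)
    rw [leadingCoeff_X_add_C, one_pow, mul_one] at h2
    rwa [leadingCoeff, leadingCoeff, h1] at h2
  · rw [coeff_eq_zero_of_natDegree_lt (h1 ▸ h), coeff_eq_zero_of_natDegree_lt h]

/-- The top coefficient from the values at `0, …, n + 1`. -/
theorem interp {n : ℕ} {P : ℚ[X]} (hP : P.natDegree ≤ n + 1) (h0 : ∀ i < n, P.eval (i : ℚ) = 0) :
    ((n + 1).factorial : ℚ) * P.coeff (n + 1) = P.eval ((n + 1 : ℕ) : ℚ) - ((n + 1 : ℕ) : ℚ) * P.eval (n : ℚ) := by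
  set c := P.coeff (n + 1) with hc
  set b := P.eval (n : ℚ) with hb
  have hn0 : (n.factorial : ℚ) ≠ 0 := by exact_mod_cast n.factorial_ne_zero
  set R : ℚ[X] := P - C c * descPochhammer ℚ (n + 1) - C (b / n.factorial) * descPochhammer ℚ n with hR
  have hd1 : (descPochhammer ℚ (n + 1)).natDegree = n + 1 := descPochhammer_natDegree _ _
  have hd2 : (descPochhammer ℚ n).natDegree = n := descPochhammer_natDegree _ _
  have hdeg : R.natDegree ≤ n + 1 := by
    rw [hR]
    refine (natDegree_sub_le _ _).trans (max_le ((natDegree_sub_le _ _).trans (max_le hP ?_)) ?_)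
    · exact (natDegree_C_mul_le _ _).trans hd1.le
    · exact (natDegree_C_mul_le _ _).trans (by omega)
  have htop : R.coeff (n + 1) = 0 := by
    have h1 : (descPochhammer ℚ (n + 1)).coeff (n + 1) = 1 := by
      have := (monic_descPochhammer ℚ (n + 1)).leadingCoeff
      rwa [leadingCoeff, hd1] at this
    rw [hR, coeff_sub, coeff_sub, coeff_C_mul, coeff_C_mul, h1,
      coeff_eq_zero_of_natDegree_lt (p := descPochhammer ℚ n) (by omega)]
    simp [hc]
  have hlt : R.natDegree ≤ n := by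
    by_contra h
    have h2 : R.natDegree = n + 1 := by omega
    have h3 : R ≠ 0 := fun h0' => by rw [h0', natDegree_zero] at h2; omega
    exact h3 (leadingCoeff_eq_zero.1 (by rw [leadingCoeff, h2, htop]))
  have hz : ∀ i : ℕ, i ≤ n → R.eval (i : ℚ) = 0 := fun i hi => by
    rw [hR, eval_sub, eval_sub, eval_mul, eval_mul, eval_C, eval_C, descPochhammer_eval_eq_descFactorial,
      descPochhammer_eval_eq_descFactorial, Nat.descFactorial_eq_zero_iff_lt.2 (by omega : i < n + 1)]
    rcases hi.eq_or_lt with rfl | hi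
    · rw [Nat.descFactorial_self, div_mul_cancel₀ _ hn0, hb]
      simp
    · rw [h0 i hi, Nat.descFactorial_eq_zero_iff_lt.2 hi]
      simp
  have hR0 : R = 0 := eq_zero_of_natDegree_lt_card_of_eval_eq_zero R
    (f := fun i : Fin (n + 1) => ((i : ℕ) : ℚ)) (fun a b h => Fin.ext (Nat.cast_injective h))
    (fun i => hz i (by omega)) (by simp; omega)
  have h := congrArg (eval ((n + 1 : ℕ) : ℚ)) hR0
  rw [hR, eval_sub, eval_sub, eval_mul, eval_mul, eval_C, eval_C, descPochhammer_eval_eq_descFactorial,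
    descPochhammer_eval_eq_descFactorial, eval_zero, Nat.descFactorial_self] at h
  have h5 : ((n + 1).descFactorial n : ℚ) = (n + 1 : ℕ) * (n.factorial : ℚ) := by
    have h6 : (n + 1).descFactorial (n + 1) = (n + 1).descFactorial n := by
      rw [Nat.descFactorial_succ]; simp
    rw [← h6, Nat.descFactorial_self, Nat.factorial_succ]
    push_cast; ring
  rw [h5] at h
  field_simp at h
  linarith

section Push

variable {X P : Scheme.{u}} {π : P ⟶ X}

theorem isZero_Rpush_of_rz (f : P ⟶ X) [QuasiCompact f] [QuasiSeparated f] {M : P.Modules} {i : ℕ}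
    (hi : 1 ≤ i) (h : H28.RKoszul.RZ f M i) : IsZero ((Coh.Rpush f i).obj M) := by
  obtain ⟨q, rfl⟩ := Nat.exists_eq_add_of_le' hi
  haveI : HasInjectiveResolutions P.Modules := KFlatLib.hasInjectiveResolutions_modules
  obtain ⟨e⟩ := QCoh.nonempty_RpushAb_iso f M q
  obtain ⟨e'⟩ := QCoh.nonempty_Rpush_iso f M q
  have h1 : IsZero ((QCoh.toAbFunctor X).obj ((Coh.Rpush f (q + 1)).obj M)) :=
    (h.of_iso e.symm).of_iso ((QCoh.toAbFunctor X).mapIso e')
  haveI : (QCoh.toAbFunctor X).Faithful := inferInstanceAs (SheafOfModules.toSheaf X.ringCatSheaf).Faithful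
  exact (IsZero.iff_id_eq_zero _).2 ((QCoh.toAbFunctor X).map_injective (h1.eq_of_src _ _))

theorem rz_of_def [IsProper π] {n : ℕ} (D : H28.PBPush.Data π n) {F : P.Modules} (hF : D.Def 0 F) (i : ℕ)
    (hi : 1 ≤ i) : H28.RKoszul.RZ π F i := by
  have hq : Coh.IsQCoh F := QCoh.isQCoh_of_isFinLocFree hF.1
  refine H28.RzCover.isZero_RpushAb_of_cover (f := π) hq {W | ∃ y ∈ D.s, W = (D.a y).U} (fun x => ?_) ?_ i hi
  · obtain ⟨y, hy, hx⟩ := D.cover x
    exact ⟨(D.a y).U, ⟨y, hy, rfl⟩, hx⟩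
  rintro W ⟨y, hy, rfl⟩ m
  let c := D.a y
  let V : P.Opens := π ⁻¹ᵁ c.U.1
  haveI : IsProper (KRR.pr n c.B) :=
    MorphismProperty.pullback_snd _ _ (PnCoh.Chow.isProper_toSpec n (ULift.{u} ℤ))
  have hj : Coh.IsQCoh ((Scheme.Modules.pullback c.j).obj F) := QCoh.isQCoh_pullback _ hq
  obtain ⟨e₀⟩ := H28.KRRReg.twF_zero (n := n) (T := c.B) ((Scheme.Modules.pullback c.j).obj F)
  have h1 := H28.BlowHH.hh_of_rz (KRR.pr n c.B) hj m
    (H28.RKoszul.rz_of_iso _ e₀ (m + 1) (hF.2 y hy 0 (m + 1) (by omega) (by omega))) (isAffineOpen_top c.B)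
  haveI : IsIso (KRR.pr n c.B ⁻¹ᵁ ⊤ : (KRR.PY n c.B).Opens).ι := H28.BlowHH.isIso_ι_top _
  have h2 := H28.BlowHH.hh_iso (KRR.pr n c.B ⁻¹ᵁ ⊤ : (KRR.PY n c.B).Opens).ι hj (m + 1)
    (QCoh.subsingleton_HH_of_iso ((Scheme.Modules.restrictFunctorIsoPullback _).app _) _ h1)
  refine QCoh.subsingleton_HH_of_iso ((Scheme.Modules.restrictFunctorIsoPullback V.ι).app _).symm _
    (H28.BlowHH.hh_iso c.θ (QCoh.isQCoh_pullback _ hq) _ ?_)
  exact QCoh.subsingleton_HH_of_iso ((Scheme.Modules.pullbackComp c.θ V.ι).app _).symm _ h2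

end Push

variable (k : Type u) [Field k] {C : Scheme.{u}} [C.Over (Spec (CommRingCat.of k))]
  [IsProper (C ↘ Spec (CommRingCat.of k))]

theorem euler_push [IsIntegral C] {P : Scheme.{u}} [P.Over (Spec (CommRingCat.of k))]
    [IsProper (P ↘ Spec (CommRingCat.of k))] (π : P ⟶ C) [QuasiCompact π] [QuasiSeparated π]
    (hπ : π ≫ (C ↘ Spec (CommRingCat.of k)) = P ↘ Spec (CommRingCat.of k)) {M : P.Modules} (hM : Coh.IsCoh M)
    (h : ∀ i, 1 ≤ i → H28.RKoszul.RZ π M i) :
    Curv2.euler k P M = Curv2.euler k C ((Scheme.Modules.pushforward π).obj M) := by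
  haveI : HasInjectiveResolutions P.Modules := KFlatLib.hasInjectiveResolutions_modules
  rw [EulerLeray.euler_eq k π hπ hM, finsum_eq_single _ 0 fun i hi => by
    rw [CurveSlope.euler_eq_zero_of_isZero k (isZero_Rpush_of_rz π (Nat.one_le_iff_ne_zero.2 hi)
      (h i (Nat.one_le_iff_ne_zero.2 hi))), mul_zero]]
  rw [pow_zero, one_mul]
  exact CurveCohLib.euler_congr (k := k) ((Scheme.Modules.pushforward π).rightDerivedZeroIsoSelf.app M)

/-- The degree of a nef bundle on a curve is nonnegative. -/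
theorem deg_nonneg [IsIntegral C] (hC : topologicalKrullDim C = 1) {G : C.Modules} {n : ℕ}
    (hG : FlatMod.IsFinLocFreeOfRank (n + 1) G) (hnef : CurveTest.CurveNef k G) :
    0 ≤ Curv2.deg k C G (n + 1) := by
  haveI := CurveCohLib.isNoetherian_of_proper (k := k) (X := C)
  obtain ⟨P, π, O1, q, hP⟩ := H28.PBMake.exists_of_rank hG
  have hco := H23.ProjBd.hasCoords_of_projBundle hP hG
  haveI := H23.Chern.hasCoords_smooth hco
  haveI := H23.Chern.hasCoords_irreducible hco
  haveI : IsReduced P := AlgSpLib.isReduced_of_smooth π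
  haveI : IsIntegral P := isIntegral_of_irreducibleSpace_of_isReduced P
  haveI := H23.ProjBd.isProper_of_projBundle hP hG
  letI : P.Over (Spec (CommRingCat.of k)) := ⟨π ≫ (C ↘ Spec (CommRingCat.of k))⟩
  haveI : IsProper (P ↘ Spec (CommRingCat.of k)) :=
    inferInstanceAs (IsProper (π ≫ (C ↘ Spec (CommRingCat.of k))))
  haveI := CurveCohLib.isNoetherian_of_proper (k := k) (X := P)
  have hinv : PicF.IsInvertible O1 := H28.PBCores.isInvertible_iff_rank.2 hP.invertible
  obtain ⟨Oinv, hOi, ⟨ei⟩⟩ := H23.PicInv.exists_inverse hinv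
  obtain ⟨ec⟩ := H23.PicMul.comm Oinv O1
  obtain ⟨D, hD1, hDi⟩ := H28.PBBasis.exists_data hP hG Oinv ⟨ec ≪≫ ei⟩
    (H28.KvbModel.lf_of_rank (H28.PBCores.isInvertible_iff_rank.1 hOi))
  subst hD1 hDi
  haveI := hP.epi
  have hnefL : NefPull.IsNef k D.O1 := CurveTest.isNef_of_quotient hnef π rfl hinv q
  have hlfO : FlatMod.IsFinLocFree (Coh.structureModule C) := H28.KvbLam.lf_O
  have hdim : topologicalKrullDim P ≤ ((n + 1 : ℕ) : WithBot ℕ∞) := by
    refine (H28.PBDim.dim_le D).trans ?_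
    rw [hC, Nat.cast_add, Nat.cast_one, add_comm]
  let F := H28.PBBasis.gN D n (Coh.structureModule C)
  have hFlf : FlatMod.IsFinLocFree F := (H28.PBBasis.def_gN D le_rfl hlfO).1
  have hcoh : ∀ {M : P.Modules}, FlatMod.IsFinLocFree M → Coh.IsCoh M := fun h =>
    QCoh.isCoh_iff_isFP.2 (QCoh.isFP_of_isFinLocFree h)
  -- degree bound
  obtain ⟨Q, hQ, hQm⟩ : ∃ Q : ℚ[X], (Q.natDegree ≤ n + 1 ∧ (¬ topologicalKrullDim P = ((n + 1 : ℕ) : WithBot ℕ∞) → Q.coeff (n + 1) = 0)) ∧
      ∀ m, Snapper.χ k D.O1 F m = Q.eval (m : ℚ) := by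
    have key : ∀ d : ℕ, topologicalKrullDim P < (d : WithBot ℕ∞) →
        Snapper.IsPolyLt d (Snapper.χ k D.O1 F) := fun d hd =>
      Snapper.isPolyLt_of_dim_lt k hinv d ⊤
        ((Topology.IsInducing.topologicalKrullDim_le Topology.IsEmbedding.subtypeVal.isInducing).trans_lt hd)
        F (hcoh hFlf) (fun x _ => trivial)
    by_cases hd : topologicalKrullDim P = ((n + 1 : ℕ) : WithBot ℕ∞)
    · obtain ⟨Q, hQ, hQm⟩ := key (n + 2) (hdim.trans_lt (by exact_mod_cast Nat.lt_succ_self (n + 1)))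
      exact ⟨Q, ⟨natDegree_le_iff_degree_le.2 (Order.le_of_lt_succ (by exact_mod_cast hQ)), fun h => absurd hd h⟩, hQm⟩
    · obtain ⟨Q, hQ, hQm⟩ := key (n + 1) (lt_of_le_of_ne hdim hd)
      exact ⟨Q, ⟨natDegree_le_iff_degree_le.2 hQ.le, fun _ => coeff_eq_zero_of_degree_lt hQ⟩, hQm⟩
  -- values
  have hval : ∀ a m : ℕ, a + m = n → Q.eval (m : ℚ) = (Curv2.euler k C
      ((Scheme.Modules.pushforward π).obj (H28.PBBasis.gN D a (Coh.structureModule C))) : ℚ) := by
    intro a m ham
    have hdef := H28.PBBasis.def_gN D (show a ≤ n by omega) hlfO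
    rw [← euler_push k π rfl (hcoh hdef.1) (rz_of_def D hdef), ← hQm m]
    refine congrArg Int.cast (CurveCohLib.euler_congr (k := k) (Nonempty.some (cl_eq_iff.1 ?_)))
    show PicF.cl (CohB1.tensorMod (CohB1.tensorMod (CohB1.tensorPow D.Oinv n)
        ((Scheme.Modules.pullback π).obj (Coh.structureModule C))) (CohB1.tensorPow D.O1 m)) =
      PicF.cl (CohB1.tensorMod (CohB1.tensorPow D.Oinv a) ((Scheme.Modules.pullback π).obj (Coh.structureModule C)))
    rw [cl_tensor, cl_tensor, cl_tensor, cl_tensorPow, cl_tensorPow, cl_tensorPow,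
      show PicF.cl D.Oinv ^ n = PicF.cl D.Oinv ^ a * PicF.cl D.Oinv ^ m by rw [← pow_add, ham]]
    calc _ = PicF.cl D.Oinv ^ a * PicF.cl ((Scheme.Modules.pullback π).obj (Coh.structureModule C)) *
          (PicF.cl D.O1 * PicF.cl D.Oinv) ^ m := by
            simp only [mul_pow, mul_comm, mul_left_comm, mul_assoc]
      _ = _ := by rw [H28.PBBasis.cl_inv, one_pow, mul_one]
  have h0 : ∀ i < n, Q.eval (i : ℚ) = 0 := fun i hi => by
    rw [hval (n - i) i (by omega), CurveSlope.euler_eq_zero_of_isZero k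
      (H28.PBBasis.isZero_push_gN D (by omega) (by omega) hlfO)]
    simp
  have hn : Q.eval (n : ℚ) = (Curv2.euler k C (Coh.structureModule C) : ℚ) := by
    rw [hval 0 n (by omega)]
    haveI := H28.PBBasis.isIso_unit D hlfO
    exact congrArg Int.cast (CurveCohLib.euler_congr (k := k)
      ((Scheme.Modules.pushforward π).mapIso (H28.PBBasis.gN_zero D _).some ≪≫
        (asIso ((Scheme.Modules.pullbackPushforwardAdjunction π).unit.app (Coh.structureModule C))).symm))
  obtain ⟨eu⟩ := PicClLib.nonempty_pullback_structureModule π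
  have htwist : ∀ m : ℕ, (Curv2.euler k P (CohB1.tensorPow D.O1 m) : ℚ) = Q.eval ((m + n : ℕ) : ℚ) := fun m => by
    rw [← hQm (m + n)]
    refine congrArg Int.cast (CurveCohLib.euler_congr (k := k) (Nonempty.some (cl_eq_iff.1 ?_)))
    show PicF.cl (CohB1.tensorPow D.O1 m) = PicF.cl (CohB1.tensorMod (CohB1.tensorMod (CohB1.tensorPow D.Oinv n)
        ((Scheme.Modules.pullback π).obj (Coh.structureModule C))) (CohB1.tensorPow D.O1 (m + n)))
    rw [cl_tensor, cl_tensor, cl_tensorPow, cl_tensorPow, cl_tensorPow, cl_eq_iff.2 ⟨eu⟩]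
    show _ = PicF.cl D.Oinv ^ n * 1 * PicF.cl D.O1 ^ (m + n)
    rw [mul_one, pow_add, mul_left_comm, ← mul_pow, mul_comm (PicF.cl D.Oinv), H28.PBBasis.cl_inv, one_pow, mul_one]
  have hn1 : Q.eval ((n + 1 : ℕ) : ℚ) = (Curv2.euler k C G : ℚ) := by
    rw [show n + 1 = 1 + n by omega, ← htwist 1,
      euler_push k π rfl (hcoh (H28.KvbModel.lf_of_rank (H28.PBCores.isInvertible_iff_rank.1
        (InvX.isInvertible_tensorPow hinv 1)))) fun i hi => H28.BlowHH.rz_bundle hP hG 1 i hi]
    haveI := H28.PBRecog.isIso_can hP hG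
    exact congrArg Int.cast (CurveCohLib.euler_congr (k := k)
      ((Scheme.Modules.pushforward π).mapIso (Nonempty.some (cl_eq_iff.1 (by rw [cl_tensorPow, pow_one]))) ≪≫
        (asIso (H28.PBRecog.can q)).symm))
  have hmain : 0 ≤ Q.coeff (n + 1) := by
    by_cases hd : topologicalKrullDim P = ((n + 1 : ℕ) : WithBot ℕ∞)
    · obtain ⟨h1, h2⟩ := coeff_comp_X_add Q (n : ℚ) hQ.1
      rw [← h2]
      refine NefTop.coeff_nonneg k hinv hnefL hd h1 fun m => ?_
      rw [htwist m, eval_comp, eval_add, eval_X, eval_C, Nat.cast_add]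
    · rw [hQ.2 hd]
  have hi := interp hQ.1 h0
  rw [hn, hn1] at hi
  have : (0 : ℚ) ≤ ((Curv2.deg k C G (n + 1) : ℤ) : ℚ) := by
    unfold Curv2.deg
    push_cast
    push_cast at hi
    rw [← hi]
    positivity
  exact_mod_cast this

end Groth.Agent.NefVB
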