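import Groth.Agent.NefVB.Bundle
import Groth.Agent.SeesawX.Glue
import Mathlib

/-! Curve-test nefness of a bundle and extensions of the base field. -/

set_option autoImplicit false
set_option backward.isDefEq.respectTransparency false
set_option backward.isDefEq.respectTransparency.types false
set_option linter.style.haveILetI false

universe u

open CategoryTheory CategoryTheory.Limits AlgebraicGeometry TopologicalSpace
open Groth.Agent.H23

namespace Groth.Agent.NefVB

open Groth.Agent Groth.Agent.RelVA16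

theorem isNef_of_iso {k : Type u} [Field k] {X : Scheme.{u}} [X.Over (Spec (CommRingCat.of k))]
    [IsProper (X ↘ Spec (CommRingCat.of k))] {M N : X.Modules} (e : M ≅ N) (h : NefPull.IsNef k M) :
    NefPull.IsNef k N := fun C hC hd => by
  have h' := h C hC hd
  rwa [CurveCohLib.euler_congr (k := k) (PicGrp.tensorModIso (Iso.refl (ClSub.quotMod C)) e)] at h'

variable (k : Type u) [Field k] {X : Scheme.{u}} [X.Over (Spec (CommRingCat.of k))]
  [IsProper (X ↘ Spec (CommRingCat.of k))] (K : Type u) [Field K] [Algebra k K] {E : X.Modules}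

theorem curveNef_bc_iff (hE : FlatMod.IsFinLocFree E) :
    letI : (Curv2.bc k X K).Over (Spec (CommRingCat.of K)) := ⟨Curv2.bcSnd k X K⟩
    CurveTest.CurveNef k E ↔
      CurveTest.CurveNef K ((Scheme.Modules.pullback (Curv2.bcFst k X K)).obj E) := by
  letI : (Curv2.bc k X K).Over (Spec (CommRingCat.of K)) := ⟨Curv2.bcSnd k X K⟩
  haveI : IsProper (Curv2.bc k X K ↘ Spec (CommRingCat.of K)) :=
    MorphismProperty.pullback_snd (P := @IsProper) _ _ inferInstance
  have hE' := SeesawX.isFinLocFree_pullback (Curv2.bcFst k X K) hE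
  obtain ⟨B⟩ := PB.exists_of_isQCoh (E := E) (QCoh.isQCoh_of_isFinLocFree hE)
  obtain ⟨B'⟩ := PB.exists_of_isQCoh (E := (Scheme.Modules.pullback (Curv2.bcFst k X K)).obj E)
    (QCoh.isQCoh_of_isFinLocFree hE')
  obtain ⟨h, hpb, ⟨σ⟩⟩ := B.exists_baseChange (Curv2.bcFst k X K) B'
  haveI := isProper_p hE B
  haveI := isProper_p hE' B'
  letI : B.P.Over (Spec (CommRingCat.of k)) := ⟨B.p ≫ (X ↘ Spec (CommRingCat.of k))⟩
  haveI : IsProper (B.P ↘ Spec (CommRingCat.of k)) :=
    inferInstanceAs (IsProper (B.p ≫ (X ↘ Spec (CommRingCat.of k))))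
  letI : B'.P.Over (Spec (CommRingCat.of K)) := ⟨B'.p ≫ (Curv2.bc k X K ↘ Spec (CommRingCat.of K))⟩
  haveI : IsProper (B'.P ↘ Spec (CommRingCat.of K)) :=
    inferInstanceAs (IsProper (B'.p ≫ (Curv2.bc k X K ↘ Spec (CommRingCat.of K))))
  have hsq : IsPullback h (B'.P ↘ Spec (CommRingCat.of K)) (B.P ↘ Spec (CommRingCat.of k))
      (Spec.map (CommRingCat.ofHom (algebraMap k K))) :=
    hpb.paste_vert (IsPullback.of_hasPullback _ _)
  have hiff := NefTop.nef_iff_bc (k := k) h hsq (isInvertible_O1 B)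
  exact ⟨fun hn => curveNef_of_isNef_O1 K hE' B' (isNef_of_iso σ (hiff.1 (isNef_O1_of_curveNef k hE B hn))),
    fun hn => curveNef_of_isNef_O1 k hE B (hiff.2 (isNef_of_iso σ.symm (isNef_O1_of_curveNef K hE' B' hn)))⟩

end Groth.Agent.NefVB
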