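import Groth.Agent.NefVB.Bundle
import Groth.Agent.AmpleDesc5.Proper
import Groth.Agent.SeesawX.Glue
import Mathlib

/-! Openness of the locus where a bundle is ample on the fibre. -/

set_option autoImplicit false
set_option backward.isDefEq.respectTransparency false
set_option backward.isDefEq.respectTransparency.types false
set_option linter.style.haveILetI false

universe u

open CategoryTheory CategoryTheory.Limits AlgebraicGeometry TopologicalSpace

namespace Groth.Agent.NefVB

open Groth.Agent Groth.Agent.RelVA16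

theorem isAmple_iso_iff {X X' : Scheme.{u}} (e : X ≅ X') [CompactSpace X'] {L : X'.Modules} :
    CohB1.IsAmple ((Scheme.Modules.pullback e.hom).obj L) ↔ CohB1.IsAmple L := by
  haveI : CompactSpace X := e.inv.homeomorph.compactSpace
  refine ⟨fun h => ?_, fun h => AmpleVan.FiniteSurj.isAmple_pullback_of_isAffineHom e.hom h⟩
  refine AmpleX.isAmple_of_iso ?_ (AmpleVan.FiniteSurj.isAmple_pullback_of_isAffineHom e.inv h)
  exact (Scheme.Modules.pullbackComp e.inv e.hom).app _ ≪≫
    (Scheme.Modules.pullbackCongr e.inv_hom_id).app _ ≪≫ (Scheme.Modules.pullbackId _).app _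

theorem isAmple_fibre_bundle_iff {X Y : Scheme.{u}} (f : X ⟶ Y) [IsProper f] {E : X.Modules}
    (hE : FlatMod.IsFinLocFree E) (B : PB X E) (y : Y)
    (B' : PB (f.fiber y) ((Scheme.Modules.pullback (f.fiberι y)).obj E)) :
    CohB1.IsAmple B'.O1 ↔
      CohB1.IsAmple ((Scheme.Modules.pullback ((B.p ≫ f).fiberι y)).obj B.O1) := by
  obtain ⟨h, hpb, ⟨σ⟩⟩ := B.exists_baseChange (f.fiberι y) B'
  haveI := isProper_p hE B
  let e := (hpb.paste_vert (IsPullback.of_hasPullback f (Y.fromSpecResidueField y))).isoPullback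
  have he : e.hom ≫ (B.p ≫ f).fiberι y = h :=
    (hpb.paste_vert (IsPullback.of_hasPullback f (Y.fromSpecResidueField y))).isoPullback_hom_fst
  haveI : CompactSpace ↥((B.p ≫ f).fiber y) :=
    QuasiCompact.compactSpace_of_compactSpace ((B.p ≫ f).fiberToSpecResidueField y)
  let τ : (Scheme.Modules.pullback e.hom).obj ((Scheme.Modules.pullback ((B.p ≫ f).fiberι y)).obj B.O1) ≅ B'.O1 :=
    (Scheme.Modules.pullbackComp _ _).app _ ≪≫ (Scheme.Modules.pullbackCongr he).app _ ≪≫ σ
  exact ⟨fun ha => (isAmple_iso_iff e).1 (AmpleX.isAmple_of_iso τ.symm ha),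
    fun ha => AmpleX.isAmple_of_iso τ ((isAmple_iso_iff e).2 ha)⟩

end Groth.Agent.NefVB
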