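import Groth.Agent.NefVB.Degree
import Groth.Agent.CurveHom22.DegDual
import Groth.Agent.Lib.CurveHiggs
import Groth.Agent.CurveCohLib.Stable

/-! Invertible quotients of tensor products of nef bundles on curves. -/

set_option autoImplicit false
set_option linter.style.haveILetI false
set_option linter.unusedSectionVars false
set_option backward.isDefEq.respectTransparency false
set_option backward.isDefEq.respectTransparency.types false
set_option maxHeartbeats 1000000

universe u

open CategoryTheory CategoryTheory.Limits AlgebraicGeometry TopologicalSpace Opposite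

noncomputable section

namespace Groth.Agent.NefVB

open Groth.Agent Groth.Agent.CurveBundle Groth.Agent.CurveSlope Groth.Agent.CurveStable

variable (k : Type u) [Field k] {C : Scheme.{u}} [C.Over (Spec (CommRingCat.of k))]
  [IsProper (C ↘ Spec (CommRingCat.of k))]

/-- A quotient of a nef module is nef. -/
theorem curveNef_of_epi {A B : C.Modules} (π : A ⟶ B) [Epi π] (h : CurveTest.CurveNef k A) :
    CurveTest.CurveNef k B := fun D _ _ _ hd hreg g hg M hM q hq =>
  h D hd hreg g hg M hM ((Scheme.Modules.pullback g).map π ≫ q)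
    (haveI := hq; haveI : Epi ((Scheme.Modules.pullback g).map π) := inferInstance; epi_comp _ _)

variable [IsIntegral C] [Smooth (C ↘ Spec (CommRingCat.of k))]

theorem dg_nonneg (hC : topologicalKrullDim C = 1) {G : C.Modules} (hG : FlatMod.IsFinLocFree G)
    (h : CurveTest.CurveNef k G) : 0 ≤ dg k G := by
  rcases Nat.eq_zero_or_pos (rk G) with h0 | hpos
  · haveI := isLocallyNoetherian' k (X := C)
    rw [dg_eq_zero_of_isZero k (isZero_of_rk_zero hG h0)]
  · obtain ⟨n, hn⟩ := Nat.exists_eq_add_of_le' hpos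
    have hr : FlatMod.IsFinLocFreeOfRank (n + 1) G := hn ▸ isFinLocFreeOfRank_rk hG
    rw [← deg_eq_dg k hr]
    exact deg_nonneg k hC hr h

/-- An invertible quotient of the tensor product of nef bundles has nonnegative degree. -/
theorem deg_quot_tensor (hC : topologicalKrullDim C = 1) {G₁ G₂ M : C.Modules}
    (h₁ : FlatMod.IsFinLocFree G₁) (h₂ : FlatMod.IsFinLocFree G₂) (n₁ : CurveTest.CurveNef k G₁)
    (n₂ : CurveTest.CurveNef k G₂) (hM : PicF.IsInvertible M) (φ : CohB1.tensorMod G₁ G₂ ⟶ M) [Epi φ] :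
    0 ≤ Curv2.deg k C M 1 := by
  haveI := isLocallyNoetherian' k (X := C)
  have hMr := InvEnd.isFinLocFreeOfRank_one hM
  have hMf := isFinLocFree_of_rank hMr
  let φ₀ : (SheafHomX.ten G₂).obj G₁ ⟶ M := φ
  let f := (SheafHomX.adj G₂).homEquiv G₁ M φ₀
  obtain ⟨G, π, j, hj, hπ, hfac, -, hGf, -, -, -, -⟩ :=
    exists_decomp k hC.le h₁ (SheafHomX.isFinLocFree_hom h₂ hMf) f
  haveI := hj
  haveI := hπ
  let φ₁ : (SheafHomX.ten G₂).obj G ⟶ M := ((SheafHomX.adj G₂).homEquiv G M).symm j
  have hφ₁ : φ₀ = (SheafHomX.ten G₂).map π ≫ φ₁ := by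
    rw [← Adjunction.homEquiv_naturality_left_symm, hfac]
    exact (Equiv.symm_apply_apply _ _).symm
  haveI : Epi φ₁ := by
    haveI : Epi ((SheafHomX.ten G₂).map π ≫ φ₁) := hφ₁ ▸ (inferInstanceAs (Epi φ))
    exact epi_of_epi ((SheafHomX.ten G₂).map π) φ₁
  let φ₁' : (SheafHomX.ten G).obj G₂ ⟶ M := (CurveTensor.commIso G₂ G).hom ≫ φ₁
  let f' := (SheafHomX.adj G).homEquiv G₂ M φ₁'
  obtain ⟨G', π', j', hj', hπ', hfac', -, hGf', -, -, -, -⟩ :=
    exists_decomp k hC.le h₂ (SheafHomX.isFinLocFree_hom hGf hMf) f'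
  haveI := hj'
  haveI := hπ'
  let φ₂ : (SheafHomX.ten G).obj G' ⟶ M := ((SheafHomX.adj G).homEquiv G' M).symm j'
  have hφ₂ : φ₁' = (SheafHomX.ten G).map π' ≫ φ₂ := by
    rw [← Adjunction.homEquiv_naturality_left_symm, hfac']
    exact (Equiv.symm_apply_apply _ _).symm
  let φ₂' : (SheafHomX.ten G').obj G ⟶ M := (CurveTensor.commIso G' G).inv ≫ φ₂
  let a : G ⟶ (SheafHomX.hom G').obj M := (SheafHomX.adj G').homEquiv G M φ₂'
  have ha : a ≫ (SheafHomX.homMap π').app M = j := by
    apply SheafHomX.hom_ext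
    rw [SheafHomX.homEquiv_homMap, Equiv.symm_apply_apply]
    show (DCoh.tensorBi.obj G).map π' ≫ (CurveTensor.commIso G' G).inv ≫ φ₂ = φ₁
    have hn : CurveHiggs.twist G π' ≫ (CurveTensor.commIso G' G).hom =
        (CurveTensor.commIso G₂ G).hom ≫ (DCoh.tensorBi.obj G).map π' := (CurveHiggs.comm_naturality π').symm
    have hn' : (DCoh.tensorBi.obj G).map π' ≫ (CurveTensor.commIso G' G).inv =
        (CurveTensor.commIso G₂ G).inv ≫ CurveHiggs.twist G π' := by
      rw [Iso.comp_inv_eq, Category.assoc, hn, Iso.inv_hom_id_assoc]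
    rw [← Category.assoc, hn', Category.assoc]
    refine Eq.trans (congrArg ((CurveTensor.commIso G₂ G).inv ≫ ·) hφ₂.symm) ?_
    exact Iso.inv_hom_id_assoc _ _
  haveI : Mono (a ≫ (SheafHomX.homMap π').app M) := ha ▸ hj
  haveI : Mono a := mono_of_mono a ((SheafHomX.homMap π').app M)
  have hGr := isFinLocFreeOfRank_rk hGf
  have hGr' := isFinLocFreeOfRank_rk hGf'
  have hH := CurveHom22.isFinLocFreeOfRank_hom hGr' hMr
  have hH' := CurveHom22.isFinLocFreeOfRank_hom hGr hMr
  rw [mul_one] at hH hH'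
  have hle : rk G ≤ rk G' := by
    have := rk_le_of_mono k a (coh_of_free k (isFinLocFree_of_rank hH))
    rwa [rk_eq hH] at this
  have hle' : rk G' ≤ rk G := by
    have := rk_le_of_mono k j' (coh_of_free k (isFinLocFree_of_rank hH'))
    rwa [rk_eq hH'] at this
  have hd := (CurveCohLib.deg_le_of_mono k hC j' hGr' ((le_antisymm hle' hle).symm ▸ hH')).1
  have he := CurveHom22.euler_hom k hC hGf hMr
  have hd' : dg k G' ≤ dg k ((SheafHomX.hom G).obj M) := by
    rw [← deg_eq_dg k hGr', ← deg_eq_dg k hH', ← le_antisymm hle' hle] at *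
    exact hd
  have hdH : dg k ((SheafHomX.hom G).obj M) = (rk G : ℤ) * Curv2.deg k C M 1 - dg k G := by
    unfold dg at he ⊢
    rw [he, rk_eq hH']
    push_cast
    ring
  have h1 := dg_nonneg k hC hGf (curveNef_of_epi k π n₁)
  have h2 := dg_nonneg k hC hGf' (curveNef_of_epi k π' n₂)
  have hpos : 0 < rk G := by
    rcases Nat.eq_zero_or_pos (rk G) with h0 | h0
    · exfalso
      have hz : IsZero ((SheafHomX.ten G₂).obj G) :=
        (SheafHomX.ten G₂).map_isZero (isZero_of_rk_zero hGf h0)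
      have hMz : IsZero M := (IsZero.iff_id_eq_zero _).2 ((cancel_epi φ₁).1 (hz.eq_of_src _ _))
      exact CurveEnd.not_isZero (E := M) 1 one_pos hMr hMz
    · exact h0
  have h3 : 0 ≤ (rk G : ℤ) * Curv2.deg k C M 1 := by linarith
  exact (mul_nonneg_iff_of_pos_left (by exact_mod_cast hpos)).1 h3

end Groth.Agent.NefVB
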