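import Groth.Agent.NefVB.Bundle
import Groth.Agent.RelVA16.TensorAmple
import Groth.Agent.S5721
import Groth.Agent.S2331
import Groth.Agent.S17281
import Groth.Agent.Lib.NefTop
import Groth.Agent.Lib.CurveAmple
import Groth.Agent.SeesawX.Glue
import Mathlib

/-! Nef bundles on curves and twists by ample modules. -/

set_option autoImplicit false
set_option backward.isDefEq.respectTransparency false
set_option backward.isDefEq.respectTransparency.types false
set_option linter.style.haveILetI false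

universe u

open CategoryTheory CategoryTheory.Limits AlgebraicGeometry TopologicalSpace MonoidalCategory
open Groth.Agent.H23

attribute [local instance] PicMul.clMonoid

namespace Groth.Agent.NefVB

open Groth.Agent Groth.Agent.RelVA16

variable (k : Type u) [Field k] {C : Scheme.{u}} [C.Over (Spec (CommRingCat.of k))]
  [IsProper (C ↘ Spec (CommRingCat.of k))]

/-- A nef bundle twisted by an ample module is ample. -/
theorem isAmple_O1_tensor {E H : C.Modules} (hE : FlatMod.IsFinLocFree E) (hH : CohB1.IsAmple H)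
    (hnef : CurveTest.CurveNef k E) (B' : PB C (CohB1.tensorMod H E)) : CohB1.IsAmple B'.O1 := by
  obtain ⟨B⟩ := PB.exists_of_isQCoh (E := E) (QCoh.isQCoh_of_isFinLocFree hE)
  haveI := isProper_p hE B
  haveI : CompactSpace C := QuasiCompact.compactSpace_of_compactSpace (C ↘ Spec (CommRingCat.of k))
  letI : B.P.Over (Spec (CommRingCat.of k)) := ⟨B.p ≫ (C ↘ Spec (CommRingCat.of k))⟩
  haveI : IsProper (B.P ↘ Spec (CommRingCat.of k)) :=
    inferInstanceAs (IsProper (B.p ≫ (C ↘ Spec (CommRingCat.of k))))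
  haveI : CompactSpace B.P := compactSpace_P hE B
  have hO := isInvertible_O1 B
  have hN : NefPull.IsNef k B.O1 := isNef_O1_of_curveNef k hE B hnef
  have hva : RelProj.IsRelVeryAmple B.p B.O1 :=
    B.isRelVeryAmple _ (𝟙 _) (Category.id_comp _) ((Scheme.Modules.pullbackId B.P).app B.O1).symm
  have hra : RelAmple.IsRelAmple B.p B.O1 := S5721.result B.p B.O1 hO hva
  have hHra : RelAmple.IsRelAmple (C ↘ Spec (CommRingCat.of k)) H :=
    (AmpleX.isRelAmple_iff_isAmple _ H).2 hH
  obtain ⟨n₀, hn₀, h⟩ := S2331.result B.p (C ↘ Spec (CommRingCat.of k)) B.O1 H hra hHra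
  have hA : CohB1.IsAmple (CohB1.tensorMod B.O1 ((Scheme.Modules.pullback B.p).obj (CohB1.tensorPow H (n₀ + 1)))) :=
    (AmpleX.isRelAmple_iff_isAmple _ _).1 (h (n₀ + 1) (Nat.le_succ _))
  have h1 := NefCrit.isAmple_of_nef (k := k) hO hA (NefTop.nefC_of_isNef k hO hN) hn₀
  have hpH := PicClLib.isInvertible_pullback B.p hH.1
  have hT := InvX.isInvertible_tensorMod hO hpH
  have h2 : CohB1.IsAmple (CohB1.tensorMod B.O1 ((Scheme.Modules.pullback B.p).obj H)) := by
    refine AmpleX.isAmple_of_tensorPow hT (Nat.succ_pos n₀) (AmpleX.isAmple_of_iso (Nonempty.some ?_) h1)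
    refine PicMul.cl_eq_iff.1 ?_
    rw [PicMul.cl_tensor, PicMul.cl_tensor, PicMul.cl_tensorPow, PicMul.cl_tensorPow, PicMul.cl_tensor]
    show PicF.cl B.O1 ^ n₀ * (PicF.cl B.O1 * PicF.pullCl B.p (PicF.cl (CohB1.tensorPow H (n₀ + 1)))) =
      (PicF.cl B.O1 * PicF.pullCl B.p (PicF.cl H)) ^ (n₀ + 1)
    rw [PicMul.cl_tensorPow, PicMul.pullCl_pow, mul_pow, ← mul_assoc, ← pow_succ]
  have hEH := isQCoh_tensor_inv (E := E) B.hE hH.1
  obtain ⟨B''⟩ := PB.exists_of_isQCoh hEH
  obtain ⟨i, hi, ⟨τ⟩⟩ := exists_iso_tensor B hH.1 B''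
  have h3 : CohB1.IsAmple ((Scheme.Modules.pullback i.hom).obj B''.O1) := AmpleX.isAmple_of_iso τ.symm h2
  have h4 : CohB1.IsAmple B''.O1 := by
    haveI : CompactSpace B''.P := i.hom.homeomorph.compactSpace
    refine AmpleX.isAmple_of_iso ?_ (AmpleVan.FiniteSurj.isAmple_pullback_of_isAffineHom i.inv h3)
    exact (Scheme.Modules.pullbackComp i.inv i.hom).app _ ≪≫
      (Scheme.Modules.pullbackCongr i.inv_hom_id).app _ ≪≫ (Scheme.Modules.pullbackId _).app _
  let c : CohB1.tensorMod E H ≅ CohB1.tensorMod H E := CurveTensor.commIso E H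
  haveI : Epi c.hom := inferInstance
  obtain ⟨ψ, hψ, hψp, ⟨σ⟩⟩ := exists_closedImmersion_of_epi c.hom B'' B'
  haveI := hψ
  haveI : CompactSpace B''.P := i.hom.homeomorph.compactSpace
  haveI : CompactSpace B'.P := ψ.isClosedEmbedding.compactSpace
  exact AmpleX.isAmple_of_iso σ (AmpleVan.FiniteSurj.isAmple_pullback_of_isAffineHom ψ h4)

/-- An ample module of degree one. -/
theorem exists_ample_deg_one [IsAlgClosed k] [IsIntegral C] (hC : topologicalKrullDim C = 1)
    (hreg : ∀ x : C, IsRegularLocalRing (C.presheaf.stalk x)) :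
    ∃ H : C.Modules, CohB1.IsAmple H ∧ Curv2.deg k C H 1 = 1 := by
  haveI := CurveCohLib.isNoetherian_of_proper (k := k) (X := C)
  haveI := CurveCohLib.RegularCurve.smooth_of_regular k fun x _ => hreg x
  obtain ⟨S, hS, hcl⟩ := CurveSection.exists_closed_finset k hC 1
  obtain ⟨p, hp⟩ : S.Nonempty := Finset.card_pos.1 (by omega)
  have hI := CurvePoint.isInvertible_ptMod p (hcl p hp) k hC
  obtain ⟨D, hD, hd, -⟩ := CurveDuality.exists_inverse_deg k hC hI
  rw [CurvePoint.deg_ptMod p (hcl p hp) k, neg_neg] at hd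
  exact ⟨D, CurveAmple.isAmple_of_deg_pos hC hD (by rw [hd]; norm_num), hd⟩

/-- Ample twists detect nonnegativity of quotients. -/
theorem deg_quot_nonneg [IsAlgClosed k] [IsIntegral C] (hC : topologicalKrullDim C = 1)
    (hreg : ∀ x : C, IsRegularLocalRing (C.presheaf.stalk x)) {E : C.Modules}
    (hE : FlatMod.IsFinLocFree E)
    (h : ∀ (H : C.Modules), CohB1.IsAmple H → ∀ B : PB C (CohB1.tensorMod H E), CohB1.IsAmple B.O1)
    {M : C.Modules} (hM : PicF.IsInvertible M) (q : E ⟶ M) [Epi q] : 0 ≤ Curv2.deg k C M 1 := by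
  obtain ⟨H, hH, hd⟩ := exists_ample_deg_one k hC hreg
  have hHE : FlatMod.IsFinLocFree ((DCoh.tensorBi.obj H).obj E) :=
    KFlatLib.isFinLocFree_tensor (CurveStable.isFinLocFree_of_rank (InvEnd.isFinLocFreeOfRank_one hH.1)) hE
  obtain ⟨B⟩ := PB.exists_of_isQCoh (E := CohB1.tensorMod H E) (QCoh.isQCoh_of_isFinLocFree hHE)
  haveI : Epi ((DCoh.tensorBi.obj H).map q) :=
    (CurveTensor.shortExact_tensor (CurveStable.isFinLocFree_of_rank (InvEnd.isFinLocFreeOfRank_one hH.1))
      _ _ _ (CurveSlope.shortExact_kernel_of_epi q)).epi_g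
  let q' : (Scheme.Modules.pullback (𝟙 C)).obj (CohB1.tensorMod H E) ⟶ CohB1.tensorMod H M :=
    ((Scheme.Modules.pullbackId C).app _).hom ≫ (DCoh.tensorBi.obj H).map q
  have hHM := InvX.isInvertible_tensorMod hH.1 hM
  obtain ⟨r, hr, ⟨τ⟩⟩ := exists_map_of_quotient B (𝟙 C) hHM q' (epi_comp _ _)
  haveI := isProper_p hHE B
  haveI : IsClosedImmersion (r ≫ B.p) := by rw [hr]; infer_instance
  haveI : IsClosedImmersion r := IsClosedImmersion.of_comp r B.p
  haveI : CompactSpace C := QuasiCompact.compactSpace_of_compactSpace (C ↘ Spec (CommRingCat.of k))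
  have hamp := AmpleX.isAmple_of_iso τ (AmpleVan.FiniteSurj.isAmple_pullback_of_isAffineHom r (h H hH B))
  have h1 := CurveAmple.deg_pos_of_ample (k := k) hC hamp
  have h2 : Curv2.deg k C (CohB1.tensorMod H M) 1 = _ := CurveRR.deg_tensor k hC hH.1 hM
  omega

end Groth.Agent.NefVB
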