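import Groth.Agent.NefVB.Pairing
import Groth.Agent.NefVB.FieldBC
import Groth.Agent.H28.ExtFil
import Groth.Agent.H28.KvbLam
import Groth.Agent.Pic13Lib.Bdd.Gen

/-! Tensor products and exterior powers of nef bundles are nef. -/

set_option autoImplicit false
set_option linter.style.haveILetI false
set_option linter.unusedSectionVars false
set_option backward.isDefEq.respectTransparency false
set_option backward.isDefEq.respectTransparency.types false
set_option maxHeartbeats 1000000

universe u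

open CategoryTheory CategoryTheory.Limits AlgebraicGeometry TopologicalSpace Opposite

noncomputable section

namespace Groth.Agent.NefVB

open Groth.Agent Groth.Agent.AModX
open scoped TensorProduct

variable (k : Type u) [Field k] {X : Scheme.{u}} [X.Over (Spec (CommRingCat.of k))]

/-- The pullback of a nef module is nef. -/
theorem curveNef_pullback {Y : Scheme.{u}} [Y.Over (Spec (CommRingCat.of k))] (f : Y ⟶ X)
    (hf : f ≫ (X ↘ Spec (CommRingCat.of k)) = Y ↘ Spec (CommRingCat.of k)) {A : X.Modules}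
    (h : CurveTest.CurveNef k A) : CurveTest.CurveNef k ((Scheme.Modules.pullback f).obj A) :=
  fun D _ _ _ hd hreg g hg M hM q hq =>
    h D hd hreg (g ≫ f) (by rw [Category.assoc, hf, hg]) M hM
      (((Scheme.Modules.pullbackComp g f).app A).inv ≫ q) (haveI := hq; epi_comp _ _)

theorem curveNef_tensor_closed [IsAlgClosed k] {A B : X.Modules} (hA : FlatMod.IsFinLocFree A)
    (hB : FlatMod.IsFinLocFree B) (nA : CurveTest.CurveNef k A) (nB : CurveTest.CurveNef k B) :
    CurveTest.CurveNef k (CohB1.tensorMod A B) := fun D _ _ _ hd hreg g hg M hM q hq => by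
  haveI := CurveCohLib.isNoetherian_of_proper (k := k) (X := D)
  haveI := CurveCohLib.RegularCurve.smooth_of_regular k fun x _ => hreg x
  obtain ⟨e⟩ := Pic13Lib.Bdd.nonempty_pullback_tensor g A B
  haveI := hq
  haveI : Epi (e.inv ≫ q) := epi_comp _ _
  exact deg_quot_tensor k hd (SeesawX.isFinLocFree_pullback g hA) (SeesawX.isFinLocFree_pullback g hB)
    (curveNef_pullback k g hg nA) (curveNef_pullback k g hg nB) hM (e.inv ≫ q)

variable [IsProper (X ↘ Spec (CommRingCat.of k))]

/-- The tensor product of nef bundles is nef. -/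
theorem curveNef_tensor {A B : X.Modules} (hA : FlatMod.IsFinLocFree A)
    (hB : FlatMod.IsFinLocFree B) (nA : CurveTest.CurveNef k A) (nB : CurveTest.CurveNef k B) :
    CurveTest.CurveNef k (CohB1.tensorMod A B) := by
  let K := AlgebraicClosure k
  letI : (Curv2.bc k X K).Over (Spec (CommRingCat.of K)) := ⟨Curv2.bcSnd k X K⟩
  haveI : IsProper (Curv2.bc k X K ↘ Spec (CommRingCat.of K)) :=
    MorphismProperty.pullback_snd (P := @IsProper) _ _ inferInstance
  have hT : FlatMod.IsFinLocFree (CohB1.tensorMod A B) := KFlatLib.isFinLocFree_tensor hA hB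
  refine (curveNef_bc_iff k K hT).2 ?_
  obtain ⟨e⟩ := Pic13Lib.Bdd.nonempty_pullback_tensor (Curv2.bcFst k X K) A B
  haveI : Epi e.inv := inferInstance
  exact curveNef_of_epi K e.inv (curveNef_tensor_closed K (SeesawX.isFinLocFree_pullback _ hA)
    (SeesawX.isFinLocFree_pullback _ hB) ((curveNef_bc_iff k K hA).1 nA) ((curveNef_bc_iff k K hB).1 nB))

theorem curveNef_structure : CurveTest.CurveNef k (Coh.structureModule X) :=
  fun D _ _ _ _ _ g _ M hM q hq => by
    obtain ⟨e⟩ := PicClLib.nonempty_pullback_structureModule g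
    haveI := hq
    haveI : Epi (e.inv ≫ q) := epi_comp _ _
    haveI := H28.PBExist.isIso_of_epi_line (e.inv ≫ q)
      (InvEnd.isFinLocFreeOfRank_one CurveDeg.isInvertible_structureModule) (InvEnd.isFinLocFreeOfRank_one hM)
    rw [← CurveRR.deg_congr k (asIso (e.inv ≫ q)) 1]
    simp [Curv2.deg]

theorem curveNef_tensorPow {A : X.Modules} (hA : FlatMod.IsFinLocFree A) (nA : CurveTest.CurveNef k A) :
    ∀ n, FlatMod.IsFinLocFree (CohB1.tensorPow A n) ∧ CurveTest.CurveNef k (CohB1.tensorPow A n)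
  | 0 => ⟨H28.KvbLam.lf_O, curveNef_structure k⟩
  | n + 1 =>
    ⟨KFlatLib.isFinLocFree_tensor (curveNef_tensorPow hA nA n).1 hA,
      curveNef_tensor k (curveNef_tensorPow hA nA n).1 hA (curveNef_tensorPow hA nA n).2 nA⟩

/-- The exterior powers are quotients of tensor products of smaller ones. -/
theorem exists_epi_ext {E : X.Modules} (n : ℕ) :
    ∃ m : CohB1.tensorMod (H28.ExtBase.L E 1) (H28.ExtBase.L E n) ⟶ H28.ExtBase.L E (1 + n), Epi m := by
  let S : ShortComplex X.Modules := ShortComplex.mk (𝟙 E) (0 : E ⟶ E) (by simp)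
  have hs : ∀ V : X.Opens, Function.Surjective (H28.ExtFil.aV S (rfl : 1 + n = 1 + n) V) := fun V => by
    rw [← LinearMap.range_eq_top, eq_top_iff, ← exteriorPower.ιMulti_span (R := Γ(X, V)) (n := 1 + n)]
    refine Submodule.span_le.2 ?_
    rintro _ ⟨e, rfl⟩
    refine ⟨H28.ExtBase.wedge S.X₁ 1 (fun i => e (Fin.castAdd n i)) ⊗ₜ[Γ(X, V)]
      H28.ExtBase.wedge S.X₂ n (fun i => e (Fin.natAdd 1 i)), ?_⟩
    rw [H28.ExtFil.aV_wedge]
    exact congrArg (H28.ExtBase.wedge S.X₂ (1 + n)) (Fin.append_castAdd_natAdd (f := e))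
  haveI : Epi (H28.ExtFil.a S (rfl : 1 + n = 1 + n)) := by
    refine Preadditive.epi_of_cancel_zero _ fun {Z} c hc => H28.ExtFil.hom_eq_zero _ fun V p => ?_
    obtain ⟨q, hq⟩ := hs V p
    rw [← hq, ← H28.ExtFil.a_app]
    exact congrArg (fun z : _ ⟶ Z => z.app V (H28.ExtFil.η _ V q)) hc
  obtain ⟨e⟩ := H28.ExtFil.nonempty_tensor_iso (S := S) 1 n
  exact ⟨e.inv ≫ H28.ExtFil.a S (rfl : 1 + n = 1 + n), epi_comp _ _⟩

theorem curveNef_ext {A : X.Modules} (hA : FlatMod.IsFinLocFree A) (nA : CurveTest.CurveNef k A) :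
    ∀ n, CurveTest.CurveNef k (H28.ExtBase.L A n) := by
  intro n
  induction n with
  | zero =>
    obtain ⟨e⟩ := H28.ExtSh.nonempty_iso_L hA (H28.KvbLam.isExtPow_zero A)
    exact curveNef_of_epi k e.inv (curveNef_structure k)
  | succ n ih =>
    obtain ⟨e⟩ := H28.ExtSh.nonempty_iso_L hA (H28.KvbLam.isExtPow_one A)
    obtain ⟨m, hm⟩ := exists_epi_ext (E := A) n
    rw [add_comm]
    exact curveNef_of_epi k m (curveNef_tensor k (H28.ExtSh.isFinLocFree_L 1 hA) (H28.ExtSh.isFinLocFree_L n hA)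
      (curveNef_of_epi k e.inv nA) ih)

end Groth.Agent.NefVB
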